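import Groth.Agent.FlatSpread.Tensor
import Groth.Agent.LocalCrit.Criterion
import Mathlib

/-!
# Flatness of all truncations of a filtration: strata, relations, criterion
-/

set_option autoImplicit false
set_option linter.style.haveILetI false

universe u

open MvPolynomial

namespace Groth.Agent.GrFlatColim

open FlatSpread

variable {σ ι : Type} {R R' : Type u} [CommRing R] [CommRing R'] (φ : R →+* R')

theorem ext_mono {X Y : Submodule (MvPolynomial σ R) (ι → MvPolynomial σ R)} (h : X ≤ Y) : ext φ X ≤ ext φ Y :=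
  Submodule.span_mono (Set.image_mono h)

theorem ext_sup (X Y : Submodule (MvPolynomial σ R) (ι → MvPolynomial σ R)) : ext φ (X ⊔ Y) = ext φ X ⊔ ext φ Y := by
  refine le_antisymm (Submodule.span_le.2 ?_) (sup_le (ext_mono φ le_sup_left) (ext_mono φ le_sup_right))
  rintro _ ⟨z, hz, rfl⟩
  obtain ⟨x, hx, y, hy, rfl⟩ := Submodule.mem_sup.1 hz
  rw [map_add]
  exact Submodule.add_mem_sup (kL_mem_ext φ hx) (kL_mem_ext φ hy)

theorem ext_top [Finite ι] :
    ext φ (⊤ : Submodule (MvPolynomial σ R) (ι → MvPolynomial σ R)) = ⊤ := by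
  classical
  haveI := Fintype.ofFinite ι
  rw [eq_top_iff]
  rintro x -
  rw [← Finset.univ_sum_single x]
  refine Submodule.sum_mem _ fun i _ => ?_
  have h : Pi.single i (x i) = x i • kL φ (Pi.single i (1 : MvPolynomial σ R)) := by
    funext j
    show Pi.single (M := fun _ => MvPolynomial σ R') i (x i) j = x i * MvPolynomial.map φ (Pi.single (M := fun _ => MvPolynomial σ R) i 1 j)
    rcases eq_or_ne j i with rfl | hj <;> simp [*]
  rw [h]
  exact Submodule.smul_mem _ _ (kL_mem_ext φ trivial)

theorem map_smul_mem_ext {I : Ideal (MvPolynomial σ R)} {X : Submodule (MvPolynomial σ R) (ι → MvPolynomial σ R)}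
    {p : MvPolynomial σ R} (hp : p ∈ I) {y : ι → MvPolynomial σ R'} (hy : y ∈ ext φ X) :
    MvPolynomial.map φ p • y ∈ ext φ (I • X) := by
  induction hy using Submodule.span_induction with
  | mem y hy =>
    obtain ⟨x, hx, rfl⟩ := hy
    rw [← LinearMap.map_smulₛₗ]
    exact kL_mem_ext φ (Submodule.smul_mem_smul hp hx)
  | zero => rw [smul_zero]; exact zero_mem _
  | add a b _ _ ha hb => rw [smul_add]; exact add_mem ha hb
  | smul c a _ ha => rw [smul_comm]; exact Submodule.smul_mem _ c ha

theorem ext_smul (I : Ideal (MvPolynomial σ R)) (X : Submodule (MvPolynomial σ R) (ι → MvPolynomial σ R)) :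
    ext φ (I • X) = I.map (MvPolynomial.map φ) • ext φ X := by
  refine le_antisymm (Submodule.span_le.2 ?_) (Submodule.smul_le.2 fun q hq y hy => ?_)
  · rintro _ ⟨z, hz, rfl⟩
    induction hz using Submodule.smul_induction_on' with
    | smul p hp x hx =>
      rw [LinearMap.map_smulₛₗ]
      exact Submodule.smul_mem_smul (Ideal.mem_map_of_mem _ hp) (kL_mem_ext φ hx)
    | add x _ y _ hx hy => rw [map_add]; exact add_mem hx hy
  · induction hq using Submodule.span_induction with
    | mem q hq =>
      obtain ⟨p, hp, rfl⟩ := hq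
      exact map_smul_mem_ext φ hp hy
    | zero => rw [zero_smul]; exact zero_mem _
    | add a b _ _ ha hb => rw [add_smul]; exact add_mem ha hb
    | smul c a _ ha => rw [smul_eq_mul, mul_smul]; exact Submodule.smul_mem _ c ha

theorem map_C_map (K : Ideal R) :
    (K.map (C : R →+* MvPolynomial σ R)).map (MvPolynomial.map φ) = (K.map φ).map (C : R' →+* MvPolynomial σ R') := by
  rw [Ideal.map_map, Ideal.map_map, MvPolynomial.map_comp_C]

theorem cf_bot : (cf (⊥ : Ideal R) : Submodule (MvPolynomial σ R) (ι → MvPolynomial σ R)) = ⊥ := by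
  rw [eq_bot_iff]
  intro x hx
  exact (Submodule.mem_bot _).2 (funext fun i => MvPolynomial.ext _ _ fun α => by simpa using mem_cf.1 hx i α)

/-- the filtration step `W + J ^ n F` -/
noncomputable abbrev U (W : Submodule (MvPolynomial σ R) (ι → MvPolynomial σ R)) (J : Ideal (MvPolynomial σ R)) (n : ℕ) :
    Submodule (MvPolynomial σ R) (ι → MvPolynomial σ R) := W ⊔ J ^ n • ⊤

theorem ext_U [Finite ι] (W : Submodule (MvPolynomial σ R) (ι → MvPolynomial σ R)) (J : Ideal (MvPolynomial σ R)) (n : ℕ) :
    ext φ (U W J n) = U (ext φ W) (J.map (MvPolynomial.map φ)) n := by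
  rw [ext_sup, ext_smul, ext_top, Ideal.map_pow]

theorem pow_smul_U_le (W : Submodule (MvPolynomial σ R) (ι → MvPolynomial σ R)) (J : Ideal (MvPolynomial σ R)) (a b : ℕ) :
    J ^ a • U W J b ≤ U W J (a + b) := by
  rw [Submodule.smul_sup, ← Submodule.mul_smul, ← pow_add]
  exact sup_le (Submodule.smul_le_right.trans le_sup_left) le_sup_right

/-! ### membership over a localised quotient of the base -/

section Stratum

variable (K : Ideal R) (f : R)

/-- the ring of functions on a stratum -/
abbrev Str : Type u := Localization.Away (Ideal.Quotient.mk K f)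

/-- its structure map -/
abbrev toStr : R →+* Str K f := (algebraMap (R ⧸ K) (Str K f)).comp (Ideal.Quotient.mk K)

theorem exists_num (d : Str K f) : ∃ (k : ℕ) (r : R), d * toStr K f (f ^ k) = toStr K f r := by
  obtain ⟨⟨b, _, k, rfl⟩, hb⟩ := IsLocalization.surj (Submonoid.powers (Ideal.Quotient.mk K f)) d
  obtain ⟨r, rfl⟩ := Ideal.Quotient.mk_surjective b
  refine ⟨k, r, ?_⟩
  simpa [toStr] using hb

theorem exists_num_poly (q : MvPolynomial σ (Str K f)) :
    ∃ (k : ℕ) (p : MvPolynomial σ R), C (toStr K f (f ^ k)) * q = MvPolynomial.map (toStr K f) p := by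
  induction q using MvPolynomial.induction_on' with
  | monomial α c =>
    obtain ⟨k, r, hr⟩ := exists_num K f c
    exact ⟨k, monomial α r, by rw [C_mul_monomial, map_monomial, mul_comm, hr]⟩
  | add p q hp hq =>
    obtain ⟨k, p', hp'⟩ := hp
    obtain ⟨l, q', hq'⟩ := hq
    refine ⟨k + l, C (f ^ l) * p' + C (f ^ k) * q', ?_⟩
    simp only [map_add, map_mul, ← hp', ← hq', map_C, pow_add]
    ring

theorem exists_lift_of_mem_ext {L : Submodule (MvPolynomial σ R) (ι → MvPolynomial σ R)}
    {y : ι → MvPolynomial σ (Str K f)} (hy : y ∈ ext (toStr K f) L) :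
    ∃ (k : ℕ) (l : ι → MvPolynomial σ R), l ∈ L ∧ (C (toStr K f (f ^ k)) : MvPolynomial σ (Str K f)) • y = kL (toStr K f) l := by
  induction hy using Submodule.span_induction with
  | mem y hy =>
    obtain ⟨l, hl, rfl⟩ := hy
    exact ⟨0, l, hl, by simp⟩
  | zero => exact ⟨0, 0, zero_mem _, by simp⟩
  | add a b _ _ ha hb =>
    obtain ⟨k, la, hla, ea⟩ := ha
    obtain ⟨m, lb, hlb, eb⟩ := hb
    refine ⟨k + m, (C (f ^ m) : MvPolynomial σ R) • la + (C (f ^ k) : MvPolynomial σ R) • lb,
      add_mem (L.smul_mem _ hla) (L.smul_mem _ hlb), ?_⟩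
    rw [map_add, kL_C_smul, kL_C_smul, ← ea, ← eb, smul_add, smul_smul, smul_smul, ← map_mul C, ← map_mul C,
      ← map_mul, ← map_mul, ← pow_add, ← pow_add, add_comm m k]
  | smul q a _ ha =>
    obtain ⟨k, la, hla, ea⟩ := ha
    obtain ⟨m, p, hp⟩ := exists_num_poly K f q
    refine ⟨m + k, p • la, L.smul_mem _ hla, ?_⟩
    rw [LinearMap.map_smulₛₗ, ← ea, ← hp, smul_smul, smul_smul, pow_add, map_mul, map_mul]
    ring_nf

theorem exists_pow_smul_mem_cf [Finite ι] {x : ι → MvPolynomial σ R} (hx : kL (toStr K f) x = 0) :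
    ∃ k : ℕ, (C (f ^ k) : MvPolynomial σ R) • x ∈ cf K := by
  classical
  haveI := Fintype.ofFinite ι
  have h : ∀ i α, ∃ k : ℕ, f ^ k * (x i).coeff α ∈ K := fun i α => by
    have h1 : toStr K f ((x i).coeff α) = 0 := by
      have := congrArg (MvPolynomial.coeff α) (congrFun hx i)
      simpa [kL, coeff_map] using this
    obtain ⟨⟨_, k, rfl⟩, hk⟩ := (IsLocalization.map_eq_zero_iff (Submonoid.powers (Ideal.Quotient.mk K f)) (Str K f) _).1 h1
    refine ⟨k, Ideal.Quotient.eq_zero_iff_mem.1 ?_⟩
    rw [map_mul, map_pow]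
    exact hk
  choose k hk using h
  refine ⟨Finset.univ.sup fun i => (x i).support.sup (k i), mem_cf.2 fun i α => ?_⟩
  rw [Pi.smul_apply, smul_eq_mul, coeff_C_mul]
  by_cases hα : α ∈ (x i).support
  · have hle : k i α ≤ Finset.univ.sup fun i => (x i).support.sup (k i) :=
      (Finset.le_sup hα).trans (Finset.le_sup (f := fun i => (x i).support.sup (k i)) (Finset.mem_univ i))
    obtain ⟨d, hd⟩ := Nat.exists_eq_add_of_le hle
    rw [hd, pow_add, mul_comm (f ^ k i α), mul_assoc]
    exact K.mul_mem_left _ (hk i α)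
  · rw [notMem_support_iff.1 hα, mul_zero]; exact zero_mem _

/-- flatness on a stratum gives the criterion modulo its ideal, after inverting its function -/
theorem fl_of_str [Finite ι] {X : Submodule (MvPolynomial σ R) (ι → MvPolynomial σ R)}
    (h : Fl (⊥ : Ideal (Str K f)) (⊥ : Submonoid (MvPolynomial σ (Str K f))) (ext (toStr K f) X)) :
    Fl K (Submonoid.powers (C f : MvPolynomial σ R)) X := by
  intro J hJ w hw hwJ
  obtain ⟨s, hs, hsw⟩ := h (J.map (toStr K f)) bot_le _ (kL_mem_ext _ hw) (kL_mem_cf _ hwJ)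
  rw [Submonoid.mem_bot.1 hs, one_smul, cf_bot, sup_bot_eq, ← map_C_map, ← ext_smul] at hsw
  obtain ⟨k, l, hl, hkl⟩ := exists_lift_of_mem_ext K f hsw
  obtain ⟨m, hm⟩ := exists_pow_smul_mem_cf K f (x := (C (f ^ k) : MvPolynomial σ R) • w - l) (by
    rw [map_sub, kL_C_smul, hkl, sub_self])
  refine ⟨(C f : MvPolynomial σ R) ^ (m + k), ⟨m + k, rfl⟩, ?_⟩
  have e : (C f : MvPolynomial σ R) ^ (m + k) • w = (C (f ^ m) : MvPolynomial σ R) • l +
      (C (f ^ m) : MvPolynomial σ R) • ((C (f ^ k) : MvPolynomial σ R) • w - l) := by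
    rw [← smul_add, add_sub_cancel, smul_smul, ← map_mul, ← pow_add, ← map_pow]
  rw [e]
  exact Submodule.add_mem_sup (Submodule.smul_mem _ _ hl) hm

end Stratum

/-! ### killing the relations -/

/-- a relation absorbed by `J` dies in every step of the filtration -/
theorem kill_const (W : Submodule (MvPolynomial σ R) (ι → MvPolynomial σ R)) (J : Ideal (MvPolynomial σ R))
    (K : Ideal R) [Finite ι] {w : ι → MvPolynomial σ R} (hw : w ∈ cf K)
    (h : kL φ w ∈ ext φ (K.map (C : R →+* MvPolynomial σ R) • W ⊔ J • Submodule.span _ {w})) (n : ℕ) :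
    kL φ w ∈ ext φ (K.map (C : R →+* MvPolynomial σ R) • U W J n) := by
  set KC := K.map (C : R →+* MvPolynomial σ R)
  set S := Submodule.span (MvPolynomial σ R) {w}
  have key : ∀ m, kL φ w ∈ ext φ (KC • W ⊔ J ^ m • S) := by
    intro m
    induction m with
    | zero => exact kL_mem_ext φ (Submodule.mem_sup_right (by rw [pow_zero, Ideal.one_eq_top, Submodule.top_smul]; exact Submodule.mem_span_singleton_self w))
    | succ m ih =>
      rw [ext_sup, ext_smul φ J S] at h
      rw [ext_sup, ext_smul φ (J ^ m) S] at ih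
      rw [ext_sup, ext_smul φ (J ^ (m + 1)) S]
      obtain ⟨a, ha, b, hb, hab⟩ := Submodule.mem_sup.1 ih
      rw [← hab]
      refine add_mem (Submodule.mem_sup_left ha) ?_
      have hle : ext φ S ≤ ext φ (KC • W) ⊔ J.map (MvPolynomial.map φ) • ext φ S := by
        refine Submodule.span_le.2 ?_
        rintro _ ⟨z, hz, rfl⟩
        obtain ⟨p, rfl⟩ := Submodule.mem_span_singleton.1 hz
        rw [LinearMap.map_smulₛₗ]
        exact Submodule.smul_mem _ _ h
      have h2 := (Submodule.smul_mono (le_refl ((J ^ m).map (MvPolynomial.map φ))) hle) hb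
      rw [Submodule.smul_sup, ← Submodule.mul_smul, ← Ideal.map_mul, ← pow_succ] at h2
      exact (sup_le_sup_right Submodule.smul_le_right _ : (J ^ m).map (MvPolynomial.map φ) • ext φ (KC • W) ⊔ _ ≤ ext φ (KC • W) ⊔ _) h2
  refine ext_mono φ ?_ (key n)
  refine sup_le (Submodule.smul_mono le_rfl le_sup_left) ?_
  rw [Submodule.smul_le]
  intro j hj z hz
  obtain ⟨p, rfl⟩ := Submodule.mem_span_singleton.1 hz
  rw [cf_eq] at hw
  have h1 : j • p • w ∈ J ^ n • (KC • (⊤ : Submodule (MvPolynomial σ R) (ι → MvPolynomial σ R))) :=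
    Submodule.smul_mem_smul hj (Submodule.smul_mem _ p hw)
  rw [← Submodule.mul_smul, mul_comm, Submodule.mul_smul] at h1
  exact (Submodule.smul_mono le_rfl le_sup_right : _ ≤ KC • U W J n) h1

/-- the criterion at the primes over a stratum -/
theorem mem_smul_ext_of_stratum [Finite ι] {X : Submodule (MvPolynomial σ R) (ι → MvPolynomial σ R)} {K : Ideal R} {f : R}
    (hfl : Fl K (Submonoid.powers (C f : MvPolynomial σ R)) X)
    (hkill : ∀ z ∈ X ⊓ cf K, kL φ z ∈ ext φ (K.map (C : R →+* MvPolynomial σ R) • X))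
    {p : Ideal R'} (hp : K.map φ ≤ p) {y : ι → MvPolynomial σ R'} (hy : y ∈ ext φ X) (hyp : y ∈ cf p) :
    ∃ k : ℕ, (C (φ f) : MvPolynomial σ R') ^ k • y ∈ p.map (C : R' →+* MvPolynomial σ R') • ext φ X := by
  obtain ⟨_, ⟨k, rfl⟩, hk⟩ := exists_decomp φ hfl hy hyp
  refine ⟨k, ?_⟩
  have e : MvPolynomial.map φ ((C f : MvPolynomial σ R) ^ k) = (C (φ f) : MvPolynomial σ R') ^ k := by
    rw [map_pow, map_C]
  rw [← e]
  have hle : ext φ (X ⊓ cf K) ≤ p.map (C : R' →+* MvPolynomial σ R') • ext φ X := by
    refine Submodule.span_le.2 ?_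
    rintro _ ⟨z, hz, rfl⟩
    have h1 := hkill z hz
    rw [ext_smul, map_C_map] at h1
    exact Submodule.smul_mono_left (Ideal.map_mono hp) h1
  exact sup_le le_rfl hle hk

open TensorProduct in
theorem mulMap_injective_of_exact {A N M F : Type u} [CommRing A] [AddCommGroup N] [Module A N] [AddCommGroup M]
    [Module A M] [AddCommGroup F] [Module A F] [Module.Flat A F] (j : N →ₗ[A] F) (π : F →ₗ[A] M)
    (hπ : Function.Surjective π) (hexact : Function.Exact j π) (J : Ideal A)
    (h : ∀ x, j x ∈ J • (⊤ : Submodule A F) → x ∈ J • (⊤ : Submodule A N)) :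
    Function.Injective (LocalCrit.mulMap J M) := by
  rw [← LinearMap.ker_eq_bot, LinearMap.ker_eq_bot']
  intro z hz
  obtain ⟨y, rfl⟩ := LinearMap.lTensor_surjective J hπ z
  rw [LocalCrit.mulMap_lTensor] at hz
  obtain ⟨k, hk⟩ := (hexact _).1 hz
  obtain ⟨y', hy'⟩ := LocalCrit.exists_mulMap_eq (h k (hk ▸ LocalCrit.mulMap_mem J y))
  have : j.lTensor J y' = y := LocalCrit.mulMap_injective J (by rw [LocalCrit.mulMap_lTensor, hy', hk])
  rw [← this]
  exact (lTensor_exact J hexact hπ).apply_apply_eq_zero y'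

/-- **The criterion prime by prime over a Noetherian base.** -/
theorem fl_of_forall_prime [Finite ι] [Finite σ] [IsNoetherianRing R]
    (X : Submodule (MvPolynomial σ R) (ι → MvPolynomial σ R))
    (h : ∀ p : Ideal R, p.IsPrime → ∀ w ∈ X, w ∈ cf p →
      ∃ r : R, r ∉ p ∧ (C r : MvPolynomial σ R) • w ∈ p.map (C : R →+* MvPolynomial σ R) • X) :
    Fl (⊥ : Ideal R) (⊥ : Submonoid (MvPolynomial σ R)) X := by
  rw [← flat_quot_iff]
  refine Module.flat_of_isLocalized_maximal (R := R) (MvPolynomial σ R) ((ι → MvPolynomial σ R) ⧸ X)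
    (fun P _ => LocalizedModule P.primeCompl _) (fun P _ => LocalizedModule.mkLinearMap P.primeCompl _) fun q hq => ?_
  let P := MvPolynomial σ R
  let p := q.comap (algebraMap R P)
  let A := Localization.AtPrime p
  let S := Localization.AtPrime q
  let G := q.primeCompl
  letI : Algebra A S := (Localization.localRingHom p q (algebraMap R P) rfl).toAlgebra
  haveI : IsScalarTower R A S := IsScalarTower.of_algebraMap_eq fun r => by
    rw [RingHom.algebraMap_toAlgebra, Localization.localRingHom_to_map, IsScalarTower.algebraMap_apply R P S]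
  haveI : IsLocalHom (algebraMap A S) := Localization.isLocalHom_localRingHom p q (algebraMap R P) rfl
  haveI : IsNoetherianRing P := inferInstance
  haveI : IsNoetherianRing S := IsLocalization.isNoetherianRing G S inferInstance
  haveI : IsNoetherianRing A := IsLocalization.isNoetherianRing p.primeCompl A inferInstance
  let N' := LocalizedModule G X
  let F' := LocalizedModule G (ι → MvPolynomial σ R)
  let M' := LocalizedModule G ((ι → MvPolynomial σ R) ⧸ X)
  letI : Module A N' := Module.compHom N' (algebraMap A S)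
  letI : Module A F' := Module.compHom F' (algebraMap A S)
  letI : Module A M' := Module.compHom M' (algebraMap A S)
  haveI : IsScalarTower A S N' := IsScalarTower.of_algebraMap_smul fun _ _ => rfl
  haveI : IsScalarTower A S F' := IsScalarTower.of_algebraMap_smul fun _ _ => rfl
  haveI : IsScalarTower A S M' := IsScalarTower.of_algebraMap_smul fun _ _ => rfl
  haveI : IsScalarTower R A N' := IsScalarTower.of_algebraMap_smul fun r m => by
    show algebraMap A S (algebraMap R A r) • m = r • m
    rw [← IsScalarTower.algebraMap_apply, IsScalarTower.algebraMap_apply R P S, algebraMap_smul, algebraMap_smul]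
  haveI : IsScalarTower R A F' := IsScalarTower.of_algebraMap_smul fun r m => by
    show algebraMap A S (algebraMap R A r) • m = r • m
    rw [← IsScalarTower.algebraMap_apply, IsScalarTower.algebraMap_apply R P S, algebraMap_smul, algebraMap_smul]
  haveI : IsScalarTower R A M' := IsScalarTower.of_algebraMap_smul fun r m => by
    show algebraMap A S (algebraMap R A r) • m = r • m
    rw [← IsScalarTower.algebraMap_apply, IsScalarTower.algebraMap_apply R P S, algebraMap_smul, algebraMap_smul]
  haveI : Module.Flat R F' := by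
    haveI : Module.Flat S F' := Module.Flat.localizedModule G
    haveI : Module.Flat P S := IsLocalization.flat S G
    haveI : Module.Flat P F' := Module.Flat.trans P S F'
    exact Module.Flat.trans R P F'
  haveI : Module.Flat A F' :=
    (Module.flat_iff_of_isLocalization A p.primeCompl F').2 inferInstance
  haveI : Module.Finite S M' := Module.Finite.of_isLocalizedModule G (LocalizedModule.mkLinearMap G _)
  let j₀ : N' →ₗ[S] F' := LocalizedModule.map G X.subtype
  let π₀ : F' →ₗ[S] M' := LocalizedModule.map G X.mkQ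
  have hexact : Function.Exact (j₀.restrictScalars A) (π₀.restrictScalars A) :=
    LocalizedModule.map_exact G X.subtype X.mkQ (LinearMap.exact_subtype_mkQ X)
  -- the maximal ideal of the base acts through `p`
  have hm : ∀ (Y : Type u) [AddCommGroup Y] [Module R Y] [Module A Y] [IsScalarTower R A Y] (y : Y),
      y ∈ IsLocalRing.maximalIdeal A • (⊤ : Submodule A Y) ↔ y ∈ p • (⊤ : Submodule R Y) := by
    intro Y _ _ _ _ y
    rw [← IsLocalization.AtPrime.map_eq_maximalIdeal p A, ← Submodule.restrictScalars_mem R,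
      Ideal.smul_restrictScalars, Submodule.restrictScalars_top]
  have hinj : Function.Injective (LocalCrit.mulMap (IsLocalRing.maximalIdeal A) M') := by
    refine mulMap_injective_of_exact (N := N') (F := F') (M := M') (j₀.restrictScalars A) (π₀.restrictScalars A)
      (LocalizedModule.map_surjective G X.mkQ X.mkQ_surjective) hexact _ fun x hx => ?_
    replace hx := (hm F' _).1 hx
    refine (hm N' x).2 ?_
    induction x using LocalizedModule.induction_on with
    | h w t =>
      rw [LinearMap.restrictScalars_apply, LocalizedModule.map_mk] at hx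
      obtain ⟨s, hs, a, ha, he⟩ := exists_of_mem_smul_top G hx
      rw [LocalizedModule.smul'_mk] at he
      obtain ⟨c, hc⟩ := LocalizedModule.mk_eq.1 he
      simp only [one_smul, Submodule.subtype_apply] at hc
      have hw' : ((c : P) * s) • (w : ι → MvPolynomial σ R) ∈ cf p := by
        rw [mul_smul]
        have hc' : (c : P) • s • (w : ι → MvPolynomial σ R) = (c : P) • (t : P) • a := hc
        rw [hc', cf_eq]
        exact Submodule.smul_mem _ _ (Submodule.smul_mem _ _ ha)
      obtain ⟨r, hr, hrw⟩ := h p (Ideal.IsPrime.comap _) _ (X.smul_mem _ w.2) hw'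
      have hrG : (C r : P) ∈ G := fun hq' => hr (by rw [← MvPolynomial.algebraMap_eq] at hq'; exact hq')
      let v : G := ⟨C r * ((c : P) * s), mul_mem hrG (mul_mem c.2 hs)⟩
      rw [← LocalizedModule.mk_cancel_common_left v t w]
      refine mk_mem_smul_top G ?_ _
      rw [smul_smul] at hrw
      have hmap : (p.map (C : R →+* P)) • X = Submodule.map X.subtype ((p.map (C : R →+* P)) • (⊤ : Submodule P X)) := by
        rw [Submodule.map_smul'', Submodule.map_top, Submodule.range_subtype]
      obtain ⟨z, hz, hze⟩ := (SetLike.ext_iff.1 hmap _).1 hrw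
      rwa [show v • w = z from Subtype.ext hze.symm]
  haveI := LocalCrit.flat_of_mulMap_injective S hinj
  exact Module.Flat.trans R A M'

end Groth.Agent.GrFlatColim
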