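import Groth.Agent.GrFlatColim.Basic
import Groth.Agent.GrFlatStrat.Piece
import Groth.Agent.S12134
import Groth.Agent.S4870
import Groth.Agent.FlatCartier.Basic
import Mathlib

/-!
# Flatness of all truncations of a filtration descends to a ring of finite type
-/

set_option autoImplicit false
set_option linter.style.haveILetI false
set_option maxSynthPendingDepth 3

universe u

open MvPolynomial TensorProduct

namespace Groth.Agent.GrFlatColim

open FlatSpread

/-! ### translations -/

theorem flat_quot_range_iff {R A M : Type u} [CommRing R] [CommRing A] [Algebra R A] [AddCommGroup M] [Module R M]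
    (N : Submodule R M) :
    Module.Flat A ((A ⊗[R] M) ⧸ LinearMap.range (N.subtype.baseChange A)) ↔ Module.Flat A (A ⊗[R] (M ⧸ N)) := by
  have hs : Function.Surjective (N.mkQ.baseChange A) := LinearMap.lTensor_surjective A N.mkQ_surjective
  have hk : LinearMap.range (N.subtype.baseChange A) = LinearMap.ker (N.mkQ.baseChange A) := by
    ext x
    exact (lTensor_exact A (LinearMap.exact_subtype_mkQ N) N.mkQ_surjective x).symm
  let e := (Submodule.quotEquivOfEq _ _ hk).trans ((N.mkQ.baseChange A).quotKerEquivOfSurjective hs)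
  exact ⟨fun _ => Module.Flat.of_linearEquiv e.symm, fun _ => Module.Flat.of_linearEquiv e⟩

theorem flat_trunc_iff {R A' : Type u} [CommRing R] [CommRing A'] [Algebra R A'] {σ ι : Type} [Finite ι] {M : Type u}
    [AddCommGroup M] [Module R M] (X : Submodule (MvPolynomial σ R) (ι → MvPolynomial σ R))
    (g : (ι → MvPolynomial σ R) →ₗ[R] M) (hg : Function.Surjective g) (N : Submodule R M)
    (hX : X.restrictScalars R = N.comap g) :
    Module.Flat A' ((A' ⊗[R] M) ⧸ LinearMap.range (N.subtype.baseChange A')) ↔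
      Fl (⊥ : Ideal A') (⊥ : Submonoid (MvPolynomial σ A')) (ext (algebraMap R A') X) := by
  rw [flat_quot_range_iff]
  have hk : X.restrictScalars R = LinearMap.ker (N.mkQ.comp g) := by
    rw [hX, LinearMap.ker_comp, Submodule.ker_mkQ]
  exact flat_tensor_iff X ((Submodule.Quotient.restrictScalarsEquiv R X).symm.trans
    ((Submodule.quotEquivOfEq _ _ hk).trans
      ((N.mkQ.comp g).quotKerEquivOfSurjective (N.mkQ_surjective.comp hg))))

variable {σ ι : Type} {R R' : Type u} [CommRing R] [CommRing R'] (φ : R →+* R')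

theorem comap_mkQ_smul_top (W : Submodule (MvPolynomial σ R) (ι → MvPolynomial σ R)) (I : Ideal (MvPolynomial σ R)) :
    (I • (⊤ : Submodule (MvPolynomial σ R) ((ι → MvPolynomial σ R) ⧸ W))).comap W.mkQ = W ⊔ I • ⊤ := by
  rw [← Submodule.comap_map_mkQ, Submodule.map_smul'', Submodule.map_top, Submodule.range_mkQ]

theorem ext_span (s : Set (ι → MvPolynomial σ R)) :
    ext φ (Submodule.span _ s) = Submodule.span _ (kL φ '' s) := by
  refine le_antisymm (Submodule.span_le.2 ?_) (Submodule.span_mono (Set.image_mono Submodule.subset_span))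
  rintro _ ⟨z, hz, rfl⟩
  induction hz using Submodule.span_induction with
  | mem x hx => exact Submodule.subset_span ⟨x, hx, rfl⟩
  | zero => rw [map_zero]; exact zero_mem _
  | add a b _ _ ha hb => rw [map_add]; exact add_mem ha hb
  | smul c a _ ha => rw [LinearMap.map_smulₛₗ]; exact Submodule.smul_mem _ _ ha

theorem fg_ext {W : Submodule (MvPolynomial σ R) (ι → MvPolynomial σ R)} (hW : W.FG) : (ext φ W).FG := by
  classical
  obtain ⟨s, rfl⟩ := hW
  exact ⟨s.image (kL φ), by rw [ext_span, Finset.coe_image]⟩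

/-- the relations which die in `ext φ (K • X)` -/
noncomputable abbrev Killed (K : Ideal R) (X : Submodule (MvPolynomial σ R) (ι → MvPolynomial σ R)) :
    Submodule (MvPolynomial σ R) (ι → MvPolynomial σ R) :=
  (ext φ (K.map (C : R →+* MvPolynomial σ R) • X)).comap (kL φ)

theorem inf_cf_le_killed [Finite σ] [Finite ι] [IsNoetherianRing R] {K : Ideal R}
    {W : Submodule (MvPolynomial σ R) (ι → MvPolynomial σ R)} {J : Ideal (MvPolynomial σ R)} {c : ℕ}
    (hc : ∀ n ≥ c, U W J n ⊓ cf K ≤ (W ⊓ cf K) ⊔ J ^ (n - c) • (U W J c ⊓ cf K))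
    (h1 : ∀ d ≤ c, U W J d ⊓ cf K ≤ Killed φ K (U W J d))
    {T : Set (ι → MvPolynomial σ R)} (hT : Submodule.span _ T = W ⊓ cf K)
    (h2 : ∀ w ∈ T, kL φ w ∈ ext φ (K.map (C : R →+* MvPolynomial σ R) • W ⊔ J • Submodule.span _ {w})) (n : ℕ) :
    U W J n ⊓ cf K ≤ Killed φ K (U W J n) := by
  rcases le_or_gt n c with hn | hn
  · exact h1 n hn
  refine (hc n hn.le).trans (sup_le ?_ (Submodule.smul_le.2 fun j hj v hv => ?_))
  · rw [← hT, Submodule.span_le]
    intro w hw
    exact kill_const φ W J K (hT.le (Submodule.subset_span hw)).2 (h2 w hw) n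
  · rw [Submodule.mem_comap, LinearMap.map_smulₛₗ]
    refine ext_mono φ ?_ (map_smul_mem_ext φ hj (h1 c le_rfl hv))
    rw [← Submodule.mul_smul, mul_comm, Submodule.mul_smul]
    refine Submodule.smul_mono le_rfl ?_
    have := pow_smul_U_le W J (n - c) c
    rwa [Nat.sub_add_cancel hn.le] at this

theorem exists_artinRees [Finite σ] [Finite ι] [IsNoetherianRing R] (K : Ideal R)
    (W : Submodule (MvPolynomial σ R) (ι → MvPolynomial σ R)) (J : Ideal (MvPolynomial σ R)) :
    ∃ c : ℕ, ∀ n ≥ c, U W J n ⊓ cf K ≤ (W ⊓ cf K) ⊔ J ^ (n - c) • (U W J c ⊓ cf K) := by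
  obtain ⟨c, hc⟩ := Ideal.exists_pow_inf_eq_pow_smul J ((cf K).map W.mkQ)
  refine ⟨c, fun n hn z hz => ?_⟩
  have h : W.mkQ z ∈ J ^ n • (⊤ : Submodule (MvPolynomial σ R) ((ι → MvPolynomial σ R) ⧸ W)) ⊓ (cf K).map W.mkQ := by
    refine ⟨?_, Submodule.mem_map_of_mem hz.2⟩
    have := (comap_mkQ_smul_top W (J ^ n)).ge hz.1
    exact this
  rw [hc n hn] at h
  have h1 : J ^ c • (⊤ : Submodule (MvPolynomial σ R) ((ι → MvPolynomial σ R) ⧸ W)) ⊓ (cf K).map W.mkQ ≤
      (U W J c ⊓ cf K).map W.mkQ := by
    rintro x ⟨hx, v, hv, rfl⟩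
    exact ⟨v, ⟨(comap_mkQ_smul_top W (J ^ c)).le hx, hv⟩, rfl⟩
  have h2 := Submodule.smul_mono (le_refl (J ^ (n - c))) h1 h
  rw [← Submodule.map_smul''] at h2
  have h3 : z ∈ W ⊔ J ^ (n - c) • (U W J c ⊓ cf K) := by
    rw [← Submodule.comap_map_mkQ]; exact h2
  obtain ⟨a, ha, b, hb, rfl⟩ := Submodule.mem_sup.1 h3
  have hb' : b ∈ cf K := (Submodule.smul_le_right.trans inf_le_right) hb
  exact Submodule.add_mem_sup ⟨ha, by simpa using sub_mem hz.2 hb'⟩ hb

/-! ### strata -/

theorem exists_strata [Finite σ] [Finite ι] [IsNoetherianRing R]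
    (W : Submodule (MvPolynomial σ R) (ι → MvPolynomial σ R)) (J : Ideal (MvPolynomial σ R)) :
    ∃ (m : ℕ) (Is : Fin m → Ideal R) (fs : Fin m → R),
      (∀ i n, Fl (Is i) (Submonoid.powers (C (fs i) : MvPolynomial σ R)) (U W J n)) ∧
      ∀ p : Ideal R, p.IsPrime → ∃ i, Is i ≤ p ∧ fs i ∉ p := by
  obtain ⟨m, Is, fs, h1, -, h3, -⟩ := S12134.exists_stratification
    (fun (I : Ideal R) (f : R) => ∀ n, Fl I (Submonoid.powers (C f : MvPolynomial σ R)) (U W J n))
    (fun I hI hne => by
      let M := (ι → MvPolynomial σ R) ⧸ W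
      obtain ⟨f, hf, hflat⟩ := GrFlatStrat.exists_flat_piece hI hne J M
      refine ⟨f, hf, fun n => fl_of_str I f ?_⟩
      have halg : algebraMap R (Str I f) = toStr I f := by
        exact IsScalarTower.algebraMap_eq R (R ⧸ I) (Str I f)
      let N : ℕ → Submodule R M := fun k => (J ^ k • (⊤ : Submodule (MvPolynomial σ R) M)).restrictScalars R
      let Q : ℕ → Submodule (Str I f) (Str I f ⊗[R] M) := fun k => LinearMap.range ((N k).subtype.baseChange (Str I f))
      have hQ : ∀ k, Module.Flat (Str I f) ((Str I f ⊗[R] M) ⧸ Q k) := by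
        intro k
        induction k with
        | zero =>
          have : Q 0 = ⊤ := LinearMap.range_eq_top.2 (LinearMap.lTensor_surjective _ fun x => ⟨⟨x, by
            rw [Submodule.restrictScalars_mem, pow_zero, Ideal.one_eq_top, Submodule.top_smul]; trivial⟩, rfl⟩)
          haveI := Submodule.Quotient.subsingleton_iff.2 this
          infer_instance
        | succ k ih =>
          have hle : Q (k + 1) ≤ Q k := by
            have hN : N (k + 1) ≤ N k := fun x hx =>
              (Submodule.smul_mono_left (Ideal.pow_le_pow_right (Nat.le_succ k)) :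
                J ^ (k + 1) • (⊤ : Submodule (MvPolynomial σ R) M) ≤ J ^ k • ⊤) hx
            have e : (N (k + 1)).subtype = (N k).subtype.comp (Submodule.inclusion hN) := rfl
            show LinearMap.range ((N (k + 1)).subtype.baseChange _) ≤ _
            rw [e, LinearMap.baseChange_comp]
            exact LinearMap.range_comp_le_range _ _
          haveI := hflat k
          haveI := ih
          refine FlatCartier.flat_mid (Submodule.map (Q (k + 1)).mkQ (Q k)).subtype (Submodule.factor hle)
            (Submodule.injective_subtype _) ?_ (Submodule.factor_surjective hle)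
          refine LinearMap.exact_iff.2 ?_
          rw [Submodule.range_subtype]
          ext y
          obtain ⟨y, rfl⟩ := Submodule.mkQ_surjective _ y
          rw [LinearMap.mem_ker, Submodule.mkQ_apply]
          show (Submodule.Quotient.mk y : _ ⧸ Q k) = 0 ↔ _
          rw [Submodule.Quotient.mk_eq_zero]
          exact ⟨fun h => ⟨y, h, rfl⟩, fun ⟨z, hz, hzy⟩ => by
            have := hle ((Submodule.Quotient.eq _).1 hzy)
            simpa using sub_mem hz this⟩
      rw [← halg]
      refine (flat_trunc_iff (U W J n) (W.mkQ.restrictScalars R) W.mkQ_surjective (N n) ?_).1 (hQ n)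
      exact congrArg (Submodule.restrictScalars R) (comap_mkQ_smul_top W (J ^ n)).symm) ⊥
  refine ⟨m, Is, fs, h1, fun p hp => ?_⟩
  obtain ⟨i, hi⟩ := Set.mem_iUnion.1 (h3.ge (show (⟨p, hp⟩ : PrimeSpectrum R) ∈ _ by simp))
  exact ⟨i, fun x hx => hi.1 hx, hi.2⟩

/-! ### the relations die over the limit -/

theorem flat_piece_of_trunc {A B M : Type u} [CommRing A] [CommRing B] [Algebra A B] [AddCommGroup M] [Module B M]
    [Module A M] [IsScalarTower A B M] {Q P : Submodule B M} (hle : Q ≤ P)
    [Module.Flat A (M ⧸ Q)] [Module.Flat A (M ⧸ P)] : Module.Flat A (P ⧸ Q.comap P.subtype) := by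
  let f : (P ⧸ Q.comap P.subtype) →ₗ[A] M ⧸ Q :=
    ((Q.comap P.subtype).mapQ Q P.subtype le_rfl).restrictScalars A
  let g : (M ⧸ Q) →ₗ[A] M ⧸ P := (Submodule.factor hle).restrictScalars A
  have hf : Function.Injective f := by
    show Function.Injective ((Q.comap P.subtype).mapQ Q P.subtype le_rfl)
    rw [← LinearMap.ker_eq_bot]
    exact Submodule.ker_liftQ_eq_bot _ _ _ (by simp [LinearMap.ker_comp])
  have hg : Function.Surjective g := Submodule.factor_surjective hle
  refine FlatCartier.flat_left f g hf ?_ hg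
  intro y
  obtain ⟨y, rfl⟩ := Submodule.mkQ_surjective Q y
  show (Submodule.Quotient.mk y : M ⧸ P) = 0 ↔ _
  rw [Submodule.Quotient.mk_eq_zero]
  constructor
  · intro hy; exact ⟨Submodule.Quotient.mk ⟨y, hy⟩, rfl⟩
  · rintro ⟨x, hx⟩
    obtain ⟨x, rfl⟩ := Submodule.mkQ_surjective _ x
    have h3 : x.1 - y ∈ Q := (Submodule.Quotient.eq Q).1 hx
    simpa using P.sub_mem x.2 (hle h3)

variable {A : Type u} [CommRing A]

theorem flat_localized_of_trunc [Finite σ] [Finite ι]
    (E : Submodule (MvPolynomial σ A) (ι → MvPolynomial σ A)) (hE : E.FG) (I : Ideal (MvPolynomial σ A)) (hI : I.FG)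
    (hfl : ∀ k, Fl (⊥ : Ideal A) (⊥ : Submonoid (MvPolynomial σ A)) (U E I k))
    (q : Ideal (MvPolynomial σ A)) [q.IsPrime] (hq : I ≤ q) :
    Module.Flat A (LocalizedModule q.primeCompl ((ι → MvPolynomial σ A) ⧸ E)) := by
  let F := ι → MvPolynomial σ A
  haveI : Module.FinitePresentation (MvPolynomial σ A) (F ⧸ E) :=
    Module.finitePresentation_of_surjective E.mkQ E.mkQ_surjective (by rwa [Submodule.ker_mkQ])
  have hflat : ∀ k, Module.Flat A ((F ⧸ E) ⧸ I ^ k • (⊤ : Submodule (MvPolynomial σ A) (F ⧸ E))) := fun k => by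
    haveI := (flat_quot_iff (U E I k)).2 (hfl k)
    have hker : U E I k = LinearMap.ker ((I ^ k • (⊤ : Submodule (MvPolynomial σ A) (F ⧸ E))).mkQ.comp E.mkQ) := by
      rw [LinearMap.ker_comp, Submodule.ker_mkQ, comap_mkQ_smul_top]
    exact Module.Flat.of_linearEquiv (((Submodule.quotEquivOfEq _ _ hker).trans
      (LinearMap.quotKerEquivOfSurjective _ ((Submodule.mkQ_surjective _).comp E.mkQ_surjective))).restrictScalars A).symm
  refine S4870.result I hI (F ⧸ E) (fun k => ?_) q hq
  haveI := hflat k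
  haveI := hflat (k + 1)
  exact flat_piece_of_trunc (Submodule.smul_mono_left (Ideal.pow_le_pow_right (Nat.le_succ k)))

variable [Algebra R A]

theorem killed_step [Finite ι] (W : Submodule (MvPolynomial σ R) (ι → MvPolynomial σ R)) (J : Ideal (MvPolynomial σ R))
    (K : Ideal R) (d : ℕ) (hA : Fl (⊥ : Ideal A) (⊥ : Submonoid (MvPolynomial σ A)) (ext (algebraMap R A) (U W J d))) :
    U W J d ⊓ cf K ≤ Killed (algebraMap R A) K (U W J d) := by
  rintro z ⟨hz, hzK⟩
  obtain ⟨s, hs, h⟩ := hA (K.map (algebraMap R A)) bot_le _ (kL_mem_ext _ hz) (kL_mem_cf _ hzK)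
  rw [Submonoid.mem_bot.1 hs, one_smul, cf_bot, sup_bot_eq, ← map_C_map, ← ext_smul] at h
  exact h

theorem killed_const [Finite σ] [Finite ι] {W : Submodule (MvPolynomial σ R) (ι → MvPolynomial σ R)} (hW : W.FG)
    {J : Ideal (MvPolynomial σ R)} (hJ : J.FG) (K : Ideal R)
    (hA : ∀ n, Fl (⊥ : Ideal A) (⊥ : Submonoid (MvPolynomial σ A)) (ext (algebraMap R A) (U W J n)))
    {w : ι → MvPolynomial σ R} (hw : w ∈ W ⊓ cf K) :
    kL (algebraMap R A) w ∈
      ext (algebraMap R A) (K.map (C : R →+* MvPolynomial σ R) • W ⊔ J • Submodule.span _ {w}) := by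
  classical
  set α := algebraMap R A
  let y := kL α w
  let E := ext α W
  let I := J.map (MvPolynomial.map α : MvPolynomial σ R →+* MvPolynomial σ A)
  let X := (K.map α).map (C : A →+* MvPolynomial σ A) • E
  have htop : (X.colon {y}) ⊔ I = ⊤ := by
    by_contra hne
    obtain ⟨q, hq, hle⟩ := Ideal.exists_le_maximal _ hne
    haveI := hq.isPrime
    haveI := flat_localized_of_trunc E (fg_ext α hW) I (hJ.map _)
      (fun k => by have := hA k; rwa [ext_U] at this) q (le_sup_right.trans hle)
    obtain ⟨s, hs, h⟩ := fl_of_flat q.primeCompl E (K.map α) bot_le y (kL_mem_ext α hw.1) (kL_mem_cf α hw.2)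
    rw [cf_bot, sup_bot_eq] at h
    exact hs (hle (Submodule.mem_sup_left (Submodule.mem_colon_singleton.2 h)))
  obtain ⟨a, ha, j, hj, haj⟩ := Submodule.mem_sup.1 ((Ideal.eq_top_iff_one _).1 htop)
  have e : y = a • y + j • y := by rw [← add_smul, haj, one_smul]
  show y ∈ _
  rw [e, ext_sup, ext_smul α J]
  refine Submodule.add_mem_sup ?_ (Submodule.smul_mem_smul hj (kL_mem_ext α (Submodule.mem_span_singleton_self w)))
  rw [ext_smul, map_C_map]
  exact Submodule.mem_colon_singleton.1 ha

theorem ev_killed [Finite ι] (K : Ideal R) (X : Submodule (MvPolynomial σ R) (ι → MvPolynomial σ R))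
    (T : Finset (ι → MvPolynomial σ R)) (h : ∀ z ∈ T, kL (algebraMap R A) z ∈ ext (algebraMap R A) X) :
    Ev fun D : Subalgebra R A => ∀ z ∈ T, kL (algebraMap R D) z ∈ ext (algebraMap R D) X := by
  classical
  induction T using Finset.induction with
  | empty => exact Ev.of_forall fun D z hz => absurd hz (Finset.notMem_empty z)
  | insert t T _ ih =>
    refine ((ev_ext X (h t (Finset.mem_insert_self _ _))).and
      (ih fun z hz => h z (Finset.mem_insert_of_mem hz))).mono ?_
    rintro D ⟨⟨n', hn', he⟩, hT⟩ z hz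
    rcases Finset.mem_insert.1 hz with rfl | hz
    · have : n' = kL (algebraMap R D) z := by
        funext i
        refine MvPolynomial.map_injective D.val.toRingHom Subtype.val_injective ?_
        show kL D.val.toRingHom n' i = _
        rw [he]
        show MvPolynomial.map _ (z i) = MvPolynomial.map _ (MvPolynomial.map _ (z i))
        rw [MvPolynomial.map_map]
        rfl
      exact this ▸ hn'
    · exact hT z hz

theorem Ev.forall_fin {m : ℕ} {P : Fin m → Subalgebra R A → Prop} (h : ∀ i, Ev (P i)) :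
    Ev fun D => ∀ i, P i D := by
  induction m with
  | zero => exact Ev.of_forall fun D i => i.elim0
  | succ m ih => exact ((h 0).and (ih fun i => h i.succ)).mono fun D h' i => Fin.cases h'.1 h'.2 i

/-- **Flatness of all truncations descends to a subalgebra of finite type.** -/
theorem exists_fg_fl [Finite σ] [Finite ι] [IsNoetherianRing R]
    (W : Submodule (MvPolynomial σ R) (ι → MvPolynomial σ R)) (J : Ideal (MvPolynomial σ R))
    (hA : ∀ n, Fl (⊥ : Ideal A) (⊥ : Submonoid (MvPolynomial σ A)) (ext (algebraMap R A) (U W J n))) :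
    ∃ D : Subalgebra R A, D.FG ∧
      ∀ n, Fl (⊥ : Ideal D) (⊥ : Submonoid (MvPolynomial σ D)) (ext (algebraMap R D) (U W J n)) := by
  classical
  obtain ⟨m, Is, fs, hfl, hcov⟩ := exists_strata W J
  choose c hc using fun i => exists_artinRees (Is i) W J
  choose T hT using fun i (d : ℕ) => IsNoetherian.noetherian (U W J d ⊓ cf (Is i))
  choose S hS using fun i => IsNoetherian.noetherian (W ⊓ cf (Is i))
  have key : Ev fun D : Subalgebra R A => ∀ i : Fin m,
      (∀ d : Fin (c i + 1), ∀ z ∈ T i d, kL (algebraMap R D) z ∈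
        ext (algebraMap R D) ((Is i).map (C : R →+* MvPolynomial σ R) • U W J d)) ∧
      (∀ w : {w // w ∈ S i}, ∀ z ∈ ({w.1} : Finset (ι → MvPolynomial σ R)), kL (algebraMap R D) z ∈
        ext (algebraMap R D) ((Is i).map (C : R →+* MvPolynomial σ R) • W ⊔ J • Submodule.span _ {w.1})) := by
    refine Ev.forall_fin fun i => Ev.and (Ev.forall_fin fun d => ev_killed (Is i) _ _ fun z hz => ?_) ?_
    · exact killed_step W J (Is i) d (hA d) ((hT i d).le (Submodule.subset_span hz))
    · have h : ∀ w : {w // w ∈ S i}, Ev fun D : Subalgebra R A => ∀ z ∈ ({w.1} : Finset (ι → MvPolynomial σ R)),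
          kL (algebraMap R D) z ∈ ext (algebraMap R D)
            ((Is i).map (C : R →+* MvPolynomial σ R) • W ⊔ J • Submodule.span _ {w.1}) := fun w =>
        ev_killed (Is i) _ _ fun z hz => by
          rw [Finset.mem_singleton.1 hz]
          exact killed_const (IsNoetherian.noetherian W) (IsNoetherian.noetherian J) (Is i) hA
            ((hS i).le (Submodule.subset_span w.2))
      let e := (Fintype.equivFin {w // w ∈ S i})
      exact (Ev.forall_fin fun k => h (e.symm k)).mono fun D hD w => by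
        have := hD (e w)
        rwa [Equiv.symm_apply_apply] at this
  obtain ⟨F, hF⟩ := key
  refine ⟨Algebra.adjoin R (F : Set A), ⟨F, rfl⟩, fun n => ?_⟩
  set D := Algebra.adjoin R (F : Set A) with hD
  haveI : Algebra.FiniteType R D := D.fg_iff_finiteType.1 ⟨F, rfl⟩
  haveI : IsNoetherianRing D := Algebra.FiniteType.isNoetherianRing R D
  refine fl_of_forall_prime _ fun p hp y hy hyp => ?_
  obtain ⟨i, hi, hf⟩ := hcov (p.comap (algebraMap R D)) (hp.comap _)
  obtain ⟨h1, h2⟩ := hF D Algebra.subset_adjoin i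
  have hkill := inf_cf_le_killed (algebraMap R D) (hc i) (fun d hd => by
      rw [← hT i d, Submodule.span_le]
      exact fun z hz => h1 ⟨d, Nat.lt_succ_of_le hd⟩ z hz)
    (hS i) (fun w hw => h2 ⟨w, hw⟩ w (Finset.mem_singleton_self w)) n
  obtain ⟨k, hk⟩ := mem_smul_ext_of_stratum (algebraMap R D) (hfl i n) hkill (Ideal.map_le_iff_le_comap.2 hi) hy hyp
  exact ⟨algebraMap R D (fs i) ^ k, fun h => hf (hp.mem_of_pow_mem k h), by rwa [map_pow]⟩

end Groth.Agent.GrFlatColim
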