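import Groth.Agent.GrFlatColim.Main
import Groth.Agent.InjFibre.Loc
import Mathlib

/-!
# The locus where all pieces of a base changed filtration are flat is open
-/

set_option autoImplicit false
set_option linter.style.haveILetI false
set_option maxSynthPendingDepth 3
set_option maxHeartbeats 1000000

universe u

open TensorProduct DirectSum

namespace Groth.Agent.GrFlatColim

/-- the subquotient `X / X ∩ Y` -/
abbrev Piece {P F : Type u} [CommRing P] [AddCommGroup F] [Module P F] (X Y : Submodule P F) : Type u :=
  ↥X ⧸ Y.comap X.subtype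

/-- The primes of the base over which a module over an algebra is flat everywhere form an open set. -/
theorem isOpen_flat_over (C S E : Type u) [CommRing C] [CommRing S] [Algebra C S] [Algebra.FinitePresentation C S]
    [AddCommGroup E] [Module S E] [Module C E] [IsScalarTower C S E] [Module.FinitePresentation S E] :
    IsOpen {c : PrimeSpectrum C | Module.Flat C (LocalizedModule c.asIdeal.primeCompl E)} := by
  obtain ⟨I, hI⟩ := (PrimeSpectrum.isClosed_iff_zeroLocus_ideal _).1
    (FlatSpread.isOpen_flatLocus (R := C) (S := S) (M := E)).isClosed_compl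
  have hbad : ∀ r : PrimeSpectrum S, I ≤ r.asIdeal ↔ ¬ Module.Flat C (LocalizedModule r.asIdeal.primeCompl E) :=
    fun r => (Set.ext_iff.1 hI r).symm
  suffices h : {c : PrimeSpectrum C | Module.Flat C (LocalizedModule c.asIdeal.primeCompl E)} =
      (PrimeSpectrum.zeroLocus ((I.comap (algebraMap C S) : Ideal C) : Set C))ᶜ by
    rw [h]; exact (PrimeSpectrum.isClosed_zeroLocus _).isOpen_compl
  ext c
  show Module.Flat C _ ↔ ¬ ((I.comap (algebraMap C S) : Ideal C) : Set C) ⊆ (c.asIdeal : Set C)
  rw [InjFibre.flat_localized_comap_iff (A := C) (B := C) (C := S) c.asIdeal.primeCompl]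
  constructor
  · intro h hle
    haveI := c.isPrime
    obtain ⟨p, hp, hpc⟩ := Ideal.exists_minimalPrimes_le (J := c.asIdeal) hle
    obtain ⟨Q, hQ, hIQ, rfl⟩ := Ideal.exists_comap_eq_of_mem_minimalPrimes (algebraMap C S) p hp
    exact (hbad ⟨Q, hQ⟩).1 hIQ (h ⟨Q, hQ⟩ fun s hs hsQ => hs (hpc hsQ))
  · intro hnle r hr
    obtain ⟨f, hfI, hfc⟩ := Set.not_subset.1 hnle
    by_contra hn
    exact hr f hfc ((hbad r).2 hn hfI)

/-! ### pieces of a stable filtration, all at once -/

theorem flat_localized_congr {C X Y : Type u} [CommRing C] [AddCommGroup X] [Module C X] [AddCommGroup Y] [Module C Y]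
    (G : Submonoid C) (e : X ≃ₗ[C] Y) :
    Module.Flat C (LocalizedModule G X) ↔ Module.Flat C (LocalizedModule G Y) := by
  let e' := (((LocalizedModule.equivTensorProduct G X).trans
    (LinearEquiv.baseChange C (Localization G) _ _ e)).trans
      (LocalizedModule.equivTensorProduct G Y).symm).restrictScalars C
  exact ⟨fun _ => Module.Flat.of_linearEquiv e'.symm, fun _ => Module.Flat.of_linearEquiv e'⟩

theorem flat_localized_directSum_iff {C : Type u} [CommRing C] (G : Submonoid C) {κ : Type} [DecidableEq κ]
    (X : κ → Type u) [∀ k, AddCommGroup (X k)] [∀ k, Module C (X k)] :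
    Module.Flat C (LocalizedModule G (⨁ k, X k)) ↔ ∀ k, Module.Flat C (LocalizedModule G (X k)) := by
  let L := Localization G
  let e := ((LocalizedModule.equivTensorProduct G (⨁ k, X k)).trans
    (TensorProduct.directSumRight C L L X)).restrictScalars C
  have h1 : Module.Flat C (LocalizedModule G (⨁ k, X k)) ↔ Module.Flat C (⨁ k, L ⊗[C] X k) :=
    ⟨fun _ => Module.Flat.of_linearEquiv e.symm, fun _ => Module.Flat.of_linearEquiv e⟩
  rw [h1, Module.Flat.directSum_iff]
  refine forall_congr' fun k => ?_
  let ek := (LocalizedModule.equivTensorProduct G (X k)).restrictScalars C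
  exact ⟨fun _ => Module.Flat.of_linearEquiv ek, fun _ => Module.Flat.of_linearEquiv ek.symm⟩

variable {P₀ : Type u} [CommRing P₀] [IsNoetherianRing P₀]

/-- The locus where all pieces `J^k F / F' k` stay flat after base change is open. -/
theorem isOpen_forall_piece (C : Type u) [CommRing C] [Algebra P₀ C] (F : Type u) [AddCommGroup F] [Module P₀ F]
    [Module.Finite P₀ F] (J : Ideal P₀) (F' : J.Filtration F) :
    IsOpen {c : PrimeSpectrum C | ∀ k, Module.Flat C (LocalizedModule c.asIdeal.primeCompl
      (C ⊗[P₀] Piece (J ^ k • (⊤ : Submodule P₀ F)) (F'.N k)))} := by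
  classical
  let Fil : J.Filtration F := J.stableFiltration ⊤
  haveI : Module.Finite (reesAlgebra J) Fil.submodule := Module.Finite.iff_fg.2
    ((Ideal.Filtration.submodule_fg_iff_stable Fil fun i => IsNoetherian.noetherian _).2 (J.stableFiltration_stable ⊤))
  let Y : Submodule (reesAlgebra J) Fil.submodule := F'.submodule.comap Fil.submodule.subtype
  let Q := Fil.submodule ⧸ Y
  haveI : Module.FinitePresentation (reesAlgebra J) Q := Module.finitePresentation_of_finite _ _
  haveI : Algebra.FinitePresentation P₀ (reesAlgebra J) := Algebra.FinitePresentation.of_finiteType.1 inferInstance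
  let X : ℕ → Submodule P₀ F := fun k => J ^ k • ⊤
  let Gr : ℕ → Type u := fun k => Piece (X k) (F'.N k)
  let i₀ : ∀ k, X k →ₗ[P₀] Fil.submodule := fun k =>
    { toFun := fun x => ⟨PolynomialModule.single P₀ k (x : F), fun j => by
        rw [PolynomialModule.coeff_single, Finsupp.single_apply]
        split_ifs with h
        · subst h; exact x.2
        · exact zero_mem _⟩
      map_add' := fun x y => Subtype.ext (by simp)
      map_smul' := fun a x => Subtype.ext (PolynomialModule.single_smul k a (x : F)) }
  let r₀ : ∀ k, Fil.submodule →ₗ[P₀] X k := fun k =>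
    { toFun := fun e => ⟨(e : PolynomialModule P₀ F).coeff k, e.2 k⟩
      map_add' := fun x y => Subtype.ext (by simp)
      map_smul' := fun a x => Subtype.ext
        (show (a • (x : PolynomialModule P₀ F)).coeff k = a • (x : PolynomialModule P₀ F).coeff k from rfl) }
  let i : ∀ k, Gr k →ₗ[P₀] Q := fun k => ((F'.N k).comap (X k).subtype).liftQ
    ((Y.mkQ.restrictScalars P₀).comp (i₀ k)) fun x hx => (Submodule.Quotient.mk_eq_zero _).2 fun j => by
      show ((PolynomialModule.single P₀ k (x : F)).coeff j) ∈ F'.N j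
      rw [PolynomialModule.coeff_single, Finsupp.single_apply]
      split_ifs with h
      · subst h; exact hx
      · exact zero_mem _
  let r : ∀ k, Q →ₗ[P₀] Gr k := fun k =>
    ((Y.restrictScalars P₀).liftQ (((F'.N k).comap (X k).subtype).mkQ.comp (r₀ k))
      fun y hy => (Submodule.Quotient.mk_eq_zero _).2 (hy k)).comp
        (Submodule.Quotient.restrictScalarsEquiv P₀ Y).symm.toLinearMap
  have hr : ∀ k y, r k (Submodule.Quotient.mk y) = Submodule.Quotient.mk (r₀ k y) := fun k y => rfl
  let Φ : (⨁ k, Gr k) →ₗ[P₀] Q := DirectSum.toModule P₀ ℕ Q i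
  have hΦ : ∀ k, (r k).comp Φ = DirectSum.component P₀ ℕ Gr k := by
    intro k
    refine DirectSum.linearMap_ext P₀ fun l => LinearMap.ext fun z => ?_
    obtain ⟨x, rfl⟩ := Submodule.Quotient.mk_surjective _ z
    rw [LinearMap.comp_apply, LinearMap.comp_apply, LinearMap.comp_apply, DirectSum.toModule_lof]
    show r k (Submodule.Quotient.mk (i₀ l x)) = DirectSum.component P₀ ℕ Gr k (DirectSum.lof P₀ ℕ Gr l _)
    rw [hr, DirectSum.component.of]
    rcases eq_or_ne l k with rfl | hlk
    · rw [dif_pos rfl]
      exact congrArg _ (Subtype.ext (Finsupp.single_eq_same))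
    · rw [dif_neg hlk, Submodule.Quotient.mk_eq_zero, Submodule.mem_comap]
      show (PolynomialModule.single P₀ l (x : F)).coeff k ∈ F'.N k
      rw [PolynomialModule.coeff_single, Finsupp.single_eq_of_ne (Ne.symm hlk)]
      exact zero_mem _
  have hinj : Function.Injective Φ := fun a b hab => DirectSum.ext_component P₀ fun k => by
    show DirectSum.component P₀ ℕ Gr k a = DirectSum.component P₀ ℕ Gr k b
    rw [← hΦ k]
    exact congrArg (r k) hab
  have hsurj : Function.Surjective Φ := by
    intro z
    obtain ⟨y, rfl⟩ := Submodule.Quotient.mk_surjective _ z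
    let s := (y : PolynomialModule P₀ F).coeff.support
    refine ⟨∑ k ∈ s, DirectSum.lof P₀ ℕ Gr k (Submodule.Quotient.mk ⟨_, y.2 k⟩), ?_⟩
    have hy : y = ∑ k ∈ s, i₀ k ⟨_, y.2 k⟩ := by
      refine Subtype.ext (PolynomialModule.coeff_injective (Finsupp.ext fun j => ?_))
      rw [Submodule.coe_sum, PolynomialModule.coeff_sum, Finsupp.finsetSum_apply]
      show _ = ∑ k ∈ s, (Finsupp.single k ((y : PolynomialModule P₀ F).coeff k)) j
      simp only [Finsupp.single_apply, Finset.sum_ite_eq']
      split_ifs with h
      · rfl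
      · exact Finsupp.notMem_support_iff.1 h
    rw [map_sum]
    refine Eq.trans ?_ (((congrArg Y.mkQ hy).trans (map_sum Y.mkQ _ _)).symm)
    exact Finset.sum_congr rfl fun k _ => DirectSum.toModule_lof P₀ k _
  let eQ : (⨁ k, Gr k) ≃ₗ[P₀] Q := LinearEquiv.ofBijective Φ ⟨hinj, hsurj⟩
  letI : Algebra (reesAlgebra J) (C ⊗[P₀] reesAlgebra J) := Algebra.TensorProduct.rightAlgebra
  let S := C ⊗[P₀] reesAlgebra J
  let E := S ⊗[reesAlgebra J] Q
  let e : E ≃ₗ[C] ⨁ k, C ⊗[P₀] Gr k :=
    ((Algebra.IsPushout.cancelBaseChange P₀ C (reesAlgebra J) S Q).trans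
      (LinearEquiv.baseChange P₀ C _ _ eQ.symm)).trans (TensorProduct.directSumRight P₀ C C Gr)
  suffices h : {c : PrimeSpectrum C | ∀ k, Module.Flat C (LocalizedModule c.asIdeal.primeCompl (C ⊗[P₀] Gr k))} =
      {c : PrimeSpectrum C | Module.Flat C (LocalizedModule c.asIdeal.primeCompl E)} by
    show IsOpen {c : PrimeSpectrum C | ∀ k, Module.Flat C (LocalizedModule c.asIdeal.primeCompl (C ⊗[P₀] Gr k))}
    rw [h]
    exact isOpen_flat_over C S E
  ext c
  exact ((flat_localized_directSum_iff _ fun k => C ⊗[P₀] Gr k).symm).trans (flat_localized_congr _ e).symm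

/-! ### base change of pieces -/

section BaseChange

open MvPolynomial FlatSpread

attribute [local instance] MvPolynomial.algebraMvPolynomial

variable {σ ι : Type} {R A : Type u} [CommRing R] [CommRing A] [Algebra R A]
  (X Y : Submodule (MvPolynomial σ R) (ι → MvPolynomial σ R))

/-- the comparison of pieces -/
noncomputable def pieceMap :
    Piece X Y →ₗ[MvPolynomial σ R] Piece (ext (algebraMap R A) X) (ext (algebraMap R A) Y) :=
  (Y.comap X.subtype).liftQ
    { toFun := fun x => Submodule.Quotient.mk ⟨kL (algebraMap R A) x, kL_mem_ext _ x.2⟩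
      map_add' := fun a b => by
        rw [← Submodule.Quotient.mk_add]
        exact congrArg _ (Subtype.ext (map_add _ _ _))
      map_smul' := fun p x => by
        rw [RingHom.id_apply, ← Submodule.Quotient.mk_smul]
        refine congrArg _ (Subtype.ext (funext fun i => ?_))
        show MvPolynomial.map _ (p * (x : ι → MvPolynomial σ R) i) = p • MvPolynomial.map (algebraMap R A) ((x : ι → MvPolynomial σ R) i)
        rw [map_mul, Algebra.smul_def]
        rfl }
    fun _ hx => (Submodule.Quotient.mk_eq_zero _).2 (kL_mem_ext _ hx)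

/-- Pieces commute with base change when the quotient above them is flat. -/
theorem isBaseChange_piece [Finite ι] [Module.Flat R ((ι → MvPolynomial σ R) ⧸ (X ⊔ Y))] :
    IsBaseChange (MvPolynomial σ A) (pieceMap (A := A) X Y) := by
  let P₀ := MvPolynomial σ R
  let P := MvPolynomial σ A
  let G₀ := Piece X Y
  let G := Piece (ext (algebraMap R A) X) (ext (algebraMap R A) Y)
  let f : G₀ →ₗ[P₀] G := pieceMap X Y
  let h : A ⊗[R] G₀ →ₗ[A] G := (f.restrictScalars R).liftBaseChange A
  have hh : ∀ (a : A) (x : G₀), h (a ⊗ₜ x) = a • f x := fun a x => LinearMap.liftBaseChange_tmul _ _ _ _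
  let e := Algebra.IsPushout.cancelBaseChange R A P₀ P G₀
  let f' : P ⊗[P₀] G₀ →ₗ[P] G := f.liftBaseChange P
  have hfe : ∀ z, f' (e.symm z) = h z := by
    intro z
    induction z with
    | zero => simp
    | add a b ha hb => rw [map_add, map_add, map_add, ha, hb]
    | tmul a x =>
      rw [Algebra.IsPushout.cancelBaseChange_symm_tmul, LinearMap.liftBaseChange_tmul, hh, algebraMap_smul]
  have hbij : Function.Bijective h := by
    constructor
    · let ι₀ : G₀ →ₗ[P₀] (ι → MvPolynomial σ R) ⧸ Y := (Y.comap X.subtype).mapQ Y X.subtype le_rfl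
      let g₀ : ((ι → MvPolynomial σ R) ⧸ Y) →ₗ[P₀] (ι → MvPolynomial σ R) ⧸ (X ⊔ Y) :=
        Submodule.factor le_sup_right
      let incl : G →ₗ[P] (ι → MvPolynomial σ A) ⧸ ext (algebraMap R A) Y :=
        ((ext (algebraMap R A) Y).comap (ext (algebraMap R A) X).subtype).mapQ _ (ext (algebraMap R A) X).subtype le_rfl
      have hι : Function.Injective ι₀ := by
        rw [← LinearMap.ker_eq_bot]
        exact Submodule.ker_liftQ_eq_bot _ _ _ (by simp [LinearMap.ker_comp])
      have hex : Function.Exact ι₀ g₀ := by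
        intro y
        obtain ⟨y, rfl⟩ := Submodule.Quotient.mk_surjective _ y
        show (Submodule.Quotient.mk y : (ι → MvPolynomial σ R) ⧸ (X ⊔ Y)) = 0 ↔ _
        rw [Submodule.Quotient.mk_eq_zero]
        constructor
        · intro hy
          obtain ⟨x, hx, z, hz, rfl⟩ := Submodule.mem_sup.1 hy
          exact ⟨Submodule.Quotient.mk ⟨x, hx⟩, (Submodule.Quotient.eq Y).2 (by simpa using hz)⟩
        · rintro ⟨x, hx⟩
          obtain ⟨x, rfl⟩ := Submodule.Quotient.mk_surjective _ x
          have h3 : x.1 - y ∈ Y := (Submodule.Quotient.eq Y).1 hx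
          simpa using sub_mem (Submodule.mem_sup_left (T := Y) x.2) (Submodule.mem_sup_right (S := X) h3)
      have hinj := LinearMap.lTensor_injective_of_exact_of_flat (g₀.restrictScalars R) (Submodule.factor_surjective le_sup_right)
        (ι₀.restrictScalars R) hι hex A
      let E₂ := (FlatSpread.isBaseChange_quotMap (A' := A) Y).equiv
      have hsq : ∀ z, incl (h z) = E₂ ((ι₀.restrictScalars R).lTensor A z) := by
        intro z
        induction z with
        | zero => simp
        | add a b ha hb => simp only [map_add, ha, hb]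
        | tmul a x =>
          obtain ⟨x, rfl⟩ := Submodule.Quotient.mk_surjective _ x
          rw [hh, LinearMap.map_smul_of_tower, LinearMap.lTensor_tmul, IsBaseChange.equiv_tmul]
          rfl
      intro a b hab
      exact hinj (E₂.injective (by rw [← hsq, ← hsq, hab]))
    · intro z
      obtain ⟨⟨y, hy⟩, rfl⟩ := Submodule.Quotient.mk_surjective _ z
      let T : Submodule A (ext (algebraMap R A) X) := (LinearMap.range h).comap
        (((ext (algebraMap R A) Y).comap (ext (algebraMap R A) X).subtype).mkQ.restrictScalars A)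
      have hle : Submodule.span A (kL (algebraMap R A) '' (X : Set (ι → MvPolynomial σ R))) ≤
          T.map ((ext (algebraMap R A) X).subtype.restrictScalars A) := by
        refine Submodule.span_le.2 ?_
        rintro _ ⟨x, hx, rfl⟩
        exact ⟨⟨_, kL_mem_ext _ hx⟩, ⟨1 ⊗ₜ Submodule.Quotient.mk ⟨x, hx⟩, by rw [hh, one_smul]; rfl⟩, rfl⟩
      obtain ⟨⟨y', hy'⟩, hT, rfl⟩ := hle (ext_le_span _ hy)
      exact hT
  have hf' : Function.Bijective f' := by
    have : (f' : P ⊗[P₀] G₀ → G) = h ∘ e := funext fun z => by rw [Function.comp_apply, ← hfe, e.symm_apply_apply]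
    rw [this]
    exact hbij.comp e.bijective
  exact IsBaseChange.of_equiv (LinearEquiv.ofBijective f' hf') fun x => by
    show f' (1 ⊗ₜ x) = f x
    rw [LinearMap.liftBaseChange_tmul, one_smul]

end BaseChange

end Groth.Agent.GrFlatColim
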